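import Cfsg.Agent.Lib.H48.JTCent

set_option autoImplicit false
set_option linter.unusedSectionVars false
set_option linter.style.haveILetI false

/-! Counting the invertible matrices commuting with a unipotent matrix of given Jordan type. -/

namespace H48.JTCent

open Matrix

variable {F : Type*} [Field F] {t : ℕ} (d : Fin t → ℕ) (hd : ∀ k, 1 ≤ d k)

/-- all diagonal blocks -/
def beta (D : ℕ) : X d F →+ ((i : Fin D) → Matrix {k : Fin t // d k = i} {k : Fin t // d k = i} F) where
  toFun w i := blk d hd w.1 i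
  map_zero' := rfl
  map_add' _ _ := rfl

theorem beta_surjective (D : ℕ) (hD : ∀ k, d k < D) :
    Function.Surjective (beta (F := F) d hd D) := by
  intro B
  refine ⟨⟨fun k l j => if h : d k = d l ∧ (j : ℕ) = 0 then
    B ⟨d k, hD k⟩ ⟨l, h.1.symm⟩ ⟨k, rfl⟩ else 0, ?_⟩, ?_⟩
  · intro k l j h
    have : ¬ (d k = d l ∧ (j : ℕ) = 0) := by omega
    simp only [dif_neg this]
  · funext i
    ext ⟨l, hl⟩ ⟨k, hk⟩
    obtain ⟨i, hi⟩ := i
    simp only at hk
    subst hk
    change (if h : d k = d l ∧ ((0 : ℕ) = 0) then B ⟨d k, hD k⟩ ⟨l, h.1.symm⟩ ⟨k, rfl⟩ else 0) = _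
    rw [dif_pos ⟨hl.symm, rfl⟩]

/-- invertible commuting matrices in terms of the parameters -/
theorem card_comm [Fintype F] :
    Nat.card {g : GL ((k : Fin t) × Fin (d k)) F //
      (g : Matrix ((k : Fin t) × Fin (d k)) ((k : Fin t) × Fin (d k)) F) * Cfsg.jordanTypeMatrix d F =
      Cfsg.jordanTypeMatrix d F * (g : Matrix ((k : Fin t) × Fin (d k)) ((k : Fin t) × Fin (d k)) F)} =
    Nat.card {w : X d F // ∀ i ∈ Finset.univ.image d, (blk d hd w.1 i).det ≠ 0} := by
  symm
  have hcomm : ∀ g : Matrix ((k : Fin t) × Fin (d k)) ((k : Fin t) × Fin (d k)) F,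
      g * Cfsg.jordanTypeMatrix d F = Cfsg.jordanTypeMatrix d F * g ↔ g * nil d F = nil d F * g := by
    intro g
    rw [jt_eq, mul_add, add_mul, mul_one, one_mul]
    exact add_right_inj _
  refine Nat.card_congr (Equiv.ofBijective
    (fun w => ⟨GeneralLinearGroup.mkOfDetNeZero (mat d w.1.1) ((det_mat d hd w.1.1 w.1.2).mpr w.2),
      (hcomm _).mpr (mat_commute d w.1.1 w.1.2)⟩) ⟨?_, ?_⟩)
  · intro w w' h
    have h1 : mat d w.1.1 = mat d w'.1.1 := congrArg (fun g => (g.1 :
      Matrix ((k : Fin t) × Fin (d k)) ((k : Fin t) × Fin (d k)) F)) h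
    apply Subtype.ext
    apply Subtype.ext
    funext k l j
    have h2 := congrFun (congrFun h1 ⟨l, j⟩) ⟨k, ⟨0, hd k⟩⟩
    simpa [mat] using h2
  · rintro ⟨g, hg⟩
    obtain ⟨h1, h2⟩ := exists_mat d hd
      (g : Matrix ((k : Fin t) × Fin (d k)) ((k : Fin t) × Fin (d k)) F) ((hcomm _).mp hg)
    have h3 : (mat d (fun k l j =>
        (g : Matrix ((k : Fin t) × Fin (d k)) ((k : Fin t) × Fin (d k)) F)
          ⟨l, j⟩ ⟨k, ⟨0, hd k⟩⟩)).det ≠ 0 := by
      rw [h2]
      exact ((Matrix.isUnit_iff_isUnit_det _).mp g.isUnit).ne_zero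
    refine ⟨⟨⟨_, h1⟩, (det_mat d hd _ h1).mp h3⟩, ?_⟩
    apply Subtype.ext
    apply Units.ext
    exact h2

/-- number of blocks of size `i` -/
def mult (i : ℕ) : ℕ := (Finset.univ.filter (fun k : Fin t => d k = i)).card

theorem card_sub (i : ℕ) : Fintype.card {k : Fin t // d k = i} = mult d i := by
  rw [Fintype.card_subtype, mult]

theorem sum_mult (D : ℕ) (hD : ∀ k, d k < D) (f : ℕ → ℕ) :
    ∑ k, f (d k) = ∑ i ∈ Finset.range D, mult d i * f i := by
  rw [← Finset.sum_fiberwise_of_maps_to (s := Finset.univ) (t := Finset.range D) (g := d)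
    (fun k _ => Finset.mem_range.mpr (hD k))]
  apply Finset.sum_congr rfl
  intro i _
  rw [Finset.sum_congr rfl (g := fun _ => f i), Finset.sum_const, smul_eq_mul]
  · rfl
  · intro k hk
    rw [(Finset.mem_filter.mp hk).2]

theorem exponent (hd : ∀ k, 1 ≤ d k) (D : ℕ) (hD : ∀ k, d k < D) :
    ∑ k, ∑ l, min (d k) (d l) =
      (2 * (∑ i ∈ Finset.range D, ∑ j ∈ Finset.range D, if i < j then i * mult d i * mult d j else 0) +
        ∑ i ∈ Finset.range D, (i - 1) * mult d i ^ 2) + ∑ i ∈ Finset.range D, mult d i ^ 2 := by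
  have h0 : mult d 0 = 0 := by
    rw [mult, Finset.card_eq_zero, Finset.filter_eq_empty_iff]
    intro k _ h
    have := hd k
    omega
  have e1 : ∑ k, ∑ l, min (d k) (d l) =
      ∑ i ∈ Finset.range D, ∑ j ∈ Finset.range D, mult d i * mult d j * min i j := by
    have : ∀ k, ∑ l, min (d k) (d l) = ∑ j ∈ Finset.range D, mult d j * min (d k) j :=
      fun k => sum_mult d D hD (fun x => min (d k) x)
    simp only [this]
    rw [sum_mult d D hD (fun x => ∑ j ∈ Finset.range D, mult d j * min x j)]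
    apply Finset.sum_congr rfl
    intro i _
    rw [Finset.mul_sum]
    apply Finset.sum_congr rfl
    intro j _
    ring
  have e2 : ∀ i j, mult d i * mult d j * min i j =
      (if i < j then i * mult d i * mult d j else 0) + (if j < i then j * mult d j * mult d i else 0) +
        (if i = j then i * mult d i ^ 2 else 0) := by
    intro i j
    rcases lt_trichotomy i j with h | h | h
    · rw [if_pos h, if_neg (by omega), if_neg (by omega), min_eq_left h.le]; ring
    · subst h
      rw [if_neg (lt_irrefl _), if_pos rfl, min_self]; ring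
    · rw [if_neg (by omega), if_pos h, if_neg (by omega), min_eq_right h.le]; ring
  rw [e1]
  simp only [e2, Finset.sum_add_distrib]
  have e3 : ∑ i ∈ Finset.range D, ∑ j ∈ Finset.range D, (if j < i then j * mult d j * mult d i else 0) =
      ∑ i ∈ Finset.range D, ∑ j ∈ Finset.range D, (if i < j then i * mult d i * mult d j else 0) :=
    Finset.sum_comm
  have e4 : ∑ i ∈ Finset.range D, ∑ j ∈ Finset.range D, (if i = j then i * mult d i ^ 2 else 0) =
      ∑ i ∈ Finset.range D, (i - 1) * mult d i ^ 2 + ∑ i ∈ Finset.range D, mult d i ^ 2 := by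
    rw [← Finset.sum_add_distrib]
    apply Finset.sum_congr rfl
    intro i hi
    rw [Finset.sum_ite_eq, if_pos hi]
    rcases Nat.eq_zero_or_pos i with h | h
    · subst h
      rw [h0]; simp
    · obtain ⟨k, rfl⟩ : ∃ k, i = k + 1 := ⟨i - 1, by omega⟩
      rw [Nat.add_sub_cancel]
      ring
  rw [e3, e4]
  ring

theorem card_final [Fintype F] {q : ℕ} (hF : Fintype.card F = q) (D : ℕ) (hD : ∀ k, d k < D) :
    Nat.card {w : X d F // ∀ i ∈ Finset.univ.image d, (blk d hd w.1 i).det ≠ 0} =
      q ^ (2 * (∑ i ∈ Finset.range D, ∑ j ∈ Finset.range D, if i < j then i * mult d i * mult d j else 0) +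
        ∑ i ∈ Finset.range D, (i - 1) * mult d i ^ 2) *
      ∏ i ∈ Finset.range D, ∏ j : Fin (mult d i), (q ^ mult d i - q ^ (j : ℕ)) := by
  classical
  haveI : Finite (X d F) := inferInstance
  have hq : 0 < q := by rw [← hF]; exact Fintype.card_pos
  have h1 := card_fiber (beta (F := F) d hd D) (beta_surjective d hd D hD)
    (fun B => ∀ i, (B i).det ≠ 0)
  have h2 : Nat.card ((i : Fin D) → Matrix {k : Fin t // d k = i} {k : Fin t // d k = i} F) =
      q ^ (∑ i ∈ Finset.range D, mult d i ^ 2) := by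
    rw [Nat.card_pi, Finset.sum_range, ← Finset.prod_pow_eq_pow_sum]
    apply Finset.prod_congr rfl
    intro i _
    change Nat.card ({k : Fin t // d k = (i : ℕ)} → {k : Fin t // d k = (i : ℕ)} → F) = _
    rw [Nat.card_eq_fintype_card, Fintype.card_fun, Fintype.card_fun, card_sub, hF, pow_two, pow_mul]
  have h3 : Nat.card {B : (i : Fin D) → Matrix {k : Fin t // d k = i} {k : Fin t // d k = i} F //
      ∀ i, (B i).det ≠ 0} = ∏ i ∈ Finset.range D, ∏ j : Fin (mult d i), (q ^ mult d i - q ^ (j : ℕ)) := by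
    rw [Nat.card_congr (Equiv.subtypePiEquivPi (β := fun i : Fin D =>
      Matrix {k : Fin t // d k = i} {k : Fin t // d k = i} F) (p := fun i B => B.det ≠ 0)),
      Nat.card_pi, Finset.prod_range]
    apply Finset.prod_congr rfl
    intro i _
    rw [card_det_ne_zero, hF]
    have := card_sub d i
    rw [this]
  have h4 : Nat.card {w : X d F // ∀ i ∈ Finset.univ.image d, (blk d hd w.1 i).det ≠ 0} =
      Nat.card {w : X d F // ∀ i : Fin D, (beta (F := F) d hd D w i).det ≠ 0} := by
    apply Nat.card_congr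
    apply Equiv.subtypeEquivRight
    intro w
    constructor
    · intro h i
      by_cases hi : (i : ℕ) ∈ Finset.univ.image d
      · exact h i hi
      · have : IsEmpty {k : Fin t // d k = (i : ℕ)} :=
          ⟨fun k => hi (Finset.mem_image.mpr ⟨k.1, Finset.mem_univ _, k.2⟩)⟩
        change (blk d hd w.1 i).det ≠ 0
        rw [Matrix.det_isEmpty]
        exact one_ne_zero
    · intro h i hi
      obtain ⟨k, -, rfl⟩ := Finset.mem_image.mp hi
      exact h ⟨d k, hD k⟩
  rw [h2, h3, card_X, hF, exponent d hd D hD, pow_add] at h1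
  rw [h4]
  apply Nat.eq_of_mul_eq_mul_right (Nat.pow_pos (n := ∑ i ∈ Finset.range D, mult d i ^ 2) hq)
  rw [h1]
  ring

end H48.JTCent
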