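import Cfsg.Agent.Lib.H48.JTCent
import Cfsg.Agent.Lib.H48.Jordan
import Cfsg.Agent.Lib.H16.Forms

set_option autoImplicit false
set_option linter.unusedSectionVars false
set_option linter.style.haveILetI false

/-! Invariant forms of unipotent matrices of given Jordan type. -/

namespace H48.JTForm

open Matrix H48.JTCent

/-- coefficients of an invariant form of a single block -/
def bz (n i j : ℕ) : ℤ :=
  if i + j < n then (-1) ^ j * Ring.choose (((n / 2 : ℕ) : ℤ) - 1 - (j : ℤ)) (n - 1 - (i + j)) else 0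

theorem bz_eq_zero {n i j : ℕ} (h : n ≤ i + j) : bz n i j = 0 := if_neg (by omega)

theorem bz_anti {n i j : ℕ} (h : i + j + 1 = n) : bz n i j = (-1) ^ j := by
  rw [bz, if_pos (by omega)]
  have : n - 1 - (i + j) = 0 := by omega
  rw [this, Ring.choose_zero_right, mul_one]

theorem bz_rec (n i j : ℕ) : bz n (i + 1) j + bz n i (j + 1) + bz n (i + 1) (j + 1) = 0 := by
  rcases lt_trichotomy (i + j + 2) n with h | h | h
  · obtain ⟨r, hr⟩ : ∃ r, n - 1 - (i + 1 + (j + 1)) = r := ⟨_, rfl⟩
    rw [bz, bz, bz, if_pos (by omega), if_pos (by omega), if_pos (by omega), hr]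
    have e1 : n - 1 - (i + 1 + j) = r + 1 := by omega
    have e2 : n - 1 - (i + (j + 1)) = r + 1 := by omega
    rw [e1, e2]
    have e3 : (((n / 2 : ℕ) : ℤ) - 1 - (j : ℤ)) = (((n / 2 : ℕ) : ℤ) - 1 - ((j + 1 : ℕ) : ℤ)) + 1 := by
      push_cast; ring
    rw [e3, Ring.choose_succ_succ, pow_succ]
    ring
  · rw [bz_anti (by omega : i + 1 + j + 1 = n), bz_anti (by omega : i + (j + 1) + 1 = n),
      bz_eq_zero (by omega), pow_succ]
    ring
  · rw [bz_eq_zero (by omega), bz_eq_zero (by omega), bz_eq_zero (by omega)]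
    rfl

theorem bz_skew (k i j : ℕ) : bz (2 * k) j i = - bz (2 * k) i j := by
  by_cases h : i + j < 2 * k
  · rw [bz, bz, if_pos (by omega), if_pos (by omega)]
    have e0 : 2 * k / 2 = k := by omega
    rw [add_comm j i, e0]
    obtain ⟨r, hr⟩ : ∃ r, 2 * k - 1 - (i + j) = r := ⟨_, rfl⟩
    rw [hr]
    have e1 : ((k : ℤ) - 1 - (i : ℤ)) = -((i : ℤ) + 1 - k) := by ring
    have e2 : ((i : ℤ) + 1 - k) + (r : ℤ) - 1 = (k : ℤ) - 1 - (j : ℤ) := by
      have : (r : ℤ) = 2 * k - 1 - (i + j) := by omega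
      rw [this]; ring
    rw [e1, Ring.choose_neg, e2, Int.negOnePow_def, Units.smul_def, smul_eq_mul]
    have e3 : ((((-1 : ℤˣ) ^ (r : ℤ) : ℤˣ)) : ℤ) = (-1) ^ r := by
      rw [zpow_natCast]; simp
    rw [e3, ← mul_assoc, ← pow_add, neg_mul_eq_neg_mul]
    congr 1
    have e4 : i + r + (j + 1) = 2 * k := by omega
    have e5 : (-1 : ℤ) ^ (i + r) * (-1) ^ (j + 1) = 1 := by
      rw [← pow_add, e4, pow_mul]; simp
    have e6 : (-1 : ℤ) ^ (j + 1) * (-1) ^ (j + 1) = 1 := by
      rw [← pow_add, ← two_mul, pow_mul]; simp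
    have e7 : (-1 : ℤ) ^ (i + r) = (-1) ^ (j + 1) := by
      calc (-1 : ℤ) ^ (i + r) = (-1) ^ (i + r) * ((-1 : ℤ) ^ (j + 1) * (-1) ^ (j + 1)) := by rw [e6, mul_one]
        _ = ((-1 : ℤ) ^ (i + r) * (-1) ^ (j + 1)) * (-1) ^ (j + 1) := by ring
        _ = _ := by rw [e5, one_mul]
    rw [e7, pow_succ]
    ring
  · rw [bz_eq_zero (by omega), bz_eq_zero (by omega), neg_zero]

theorem bz_self (k i : ℕ) : bz (2 * k) i i = 0 := by
  have := bz_skew k i i
  omega

variable {F : Type*} [Field F] {t : ℕ} (d : Fin t → ℕ)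

/-- pairing of the blocks of equal size -/
theorem exists_pairing (bad : ℕ → Prop)
    (h : ∀ j, bad j → Even (Finset.univ.filter (fun k : Fin t => d k = j)).card) :
    ∃ σ : Fin t → Fin t, (∀ k, σ (σ k) = k) ∧ (∀ k, d (σ k) = d k) ∧ (∀ k, bad (d k) → σ k ≠ k) ∧
      (∀ k, ¬ bad (d k) → σ k = k) := by
  classical
  have key : ∀ j, ∃ τ : {k : Fin t // d k = j} → {k : Fin t // d k = j},
      (∀ x, τ (τ x) = x) ∧ (bad j → ∀ x, τ x ≠ x) ∧ (¬ bad j → ∀ x, τ x = x) := by
    intro j
    by_cases hb : bad j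
    · obtain ⟨r, hr⟩ := h j hb
      have hc : Fintype.card {k : Fin t // d k = j} = Fintype.card (Fin r ⊕ Fin r) := by
        rw [Fintype.card_subtype, hr, Fintype.card_sum, Fintype.card_fin]
      have e := Fintype.equivOfCardEq hc
      refine ⟨fun x => e.symm (Sum.swap (e x)), fun x => by simp, fun _ x hx => ?_, fun h => absurd hb h⟩
      have h2 : Sum.swap (e x) = e x := by
        rw [Equiv.symm_apply_eq] at hx
        exact hx
      rcases hex : e x with y | y <;> rw [hex] at h2 <;> simp at h2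
    · exact ⟨id, fun _ => rfl, fun h => absurd h hb, fun _ _ => rfl⟩
  choose τ h1 h2 h3 using key
  refine ⟨fun k => (τ (d k) ⟨k, rfl⟩).1, fun k => ?_, fun k => (τ (d k) ⟨k, rfl⟩).2, fun k hk heq => ?_,
    fun k hk => ?_⟩
  · have gen : ∀ j (x : {k : Fin t // d k = j}), (τ (d x.1) ⟨x.1, rfl⟩).1 = (τ j x).1 := by
      rintro j ⟨k, rfl⟩
      rfl
    change (τ (d (τ (d k) ⟨k, rfl⟩).1) ⟨(τ (d k) ⟨k, rfl⟩).1, rfl⟩).1 = k
    rw [gen, h1]
  · exact h2 _ hk ⟨k, rfl⟩ (Subtype.ext heq)
  · exact congrArg Subtype.val (h3 _ hk ⟨k, rfl⟩)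

/-- the block-permutation form -/
def G (σ : Fin t → Fin t) (β : Fin t → ℕ → ℕ → F) :
    Matrix ((k : Fin t) × Fin (d k)) ((k : Fin t) × Fin (d k)) F :=
  Matrix.of fun a b => if b.1 = σ a.1 then β a.1 a.2 b.2 else 0

variable {d}

theorem nilT_mul_apply (g : Matrix ((k : Fin t) × Fin (d k)) ((k : Fin t) × Fin (d k)) F)
    (q : (k : Fin t) × Fin (d k)) (k : Fin t) (i : Fin (d k)) :
    ((nil d F)ᵀ * g) ⟨k, i⟩ q = if h : (i : ℕ) + 1 < d k then g ⟨k, ⟨i + 1, h⟩⟩ q else 0 := by
  have h1 : (nil d F)ᵀ * g = (gᵀ * nil d F)ᵀ := by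
    rw [Matrix.transpose_mul, Matrix.transpose_transpose]
  rw [h1, Matrix.transpose_apply, mul_nil_apply]
  rfl

theorem invariant (σ : Fin t → Fin t) (β : Fin t → ℕ → ℕ → F) (hd : ∀ k, d (σ k) = d k)
    (h0 : ∀ k i j, d k ≤ i + j → β k i j = 0)
    (hrec : ∀ k i j, β k (i + 1) j + β k i (j + 1) + β k (i + 1) (j + 1) = 0) :
    (Cfsg.jordanTypeMatrix d F)ᵀ * G d σ β * Cfsg.jordanTypeMatrix d F = G d σ β := by
  rw [jt_eq, Matrix.transpose_add, Matrix.transpose_one, Matrix.add_mul, Matrix.one_mul, Matrix.mul_add,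
    Matrix.mul_one, Matrix.add_mul]
  have key : (nil d F)ᵀ * G d σ β + (G d σ β * nil d F + (nil d F)ᵀ * G d σ β * nil d F) = 0 := by
    ext ⟨k, i⟩ ⟨l, j⟩
    rw [Matrix.add_apply, Matrix.add_apply, Matrix.zero_apply, mul_nil_apply, mul_nil_apply, nilT_mul_apply]
    have e1 : (if h : (i : ℕ) + 1 < d k then G d σ β ⟨k, ⟨i + 1, h⟩⟩ ⟨l, j⟩ else 0) =
        if l = σ k then β k (i + 1) j else 0 := by
      split_ifs with h h'
      · simp only [G, Matrix.of_apply, if_pos h']
      · simp only [G, Matrix.of_apply, if_neg h']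
      · rw [h0]; omega
      · rfl
    have e2 : (if h : (j : ℕ) + 1 < d l then G d σ β ⟨k, i⟩ ⟨l, ⟨j + 1, h⟩⟩ else 0) =
        if l = σ k then β k i (j + 1) else 0 := by
      split_ifs with h h' h'
      · simp only [G, Matrix.of_apply, if_pos h']
      · simp only [G, Matrix.of_apply, if_neg h']
      · rw [h0]
        subst h'
        have := hd k
        omega
      · rfl
    have e3 : (if h : (j : ℕ) + 1 < d l then ((nil d F)ᵀ * G d σ β) ⟨k, i⟩ ⟨l, ⟨j + 1, h⟩⟩ else 0) =
        if l = σ k then β k (i + 1) (j + 1) else 0 := by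
      split_ifs with h h' h'
      · rw [nilT_mul_apply]
        split_ifs with h''
        · simp only [G, Matrix.of_apply, if_pos h']
        · rw [h0]; omega
      · rw [nilT_mul_apply]
        split_ifs with h''
        · simp only [G, Matrix.of_apply, if_neg h']
        · rfl
      · rw [h0]
        subst h'
        have := hd k
        omega
      · rfl
    rw [e1, e2, e3]
    split_ifs with h
    · linear_combination hrec k i j
    · simp
  calc _ = G d σ β + ((nil d F)ᵀ * G d σ β + (G d σ β * nil d F + (nil d F)ᵀ * G d σ β * nil d F)) := by abel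
    _ = _ := by rw [key, add_zero]

theorem nondeg (σ : Fin t → Fin t) (hσ : ∀ k, σ (σ k) = k) (β : Fin t → ℕ → ℕ → F)
    (hd : ∀ k, d (σ k) = d k) (h0 : ∀ k i j, d k ≤ i + j → β k i j = 0)
    (h1 : ∀ k i j, i + j + 1 = d k → β k i j ≠ 0) : (G d σ β).det ≠ 0 := by
  apply fun h => (Matrix.nondegenerate_iff_det_ne_zero (M := G d σ β)).mp h
  apply Matrix.nondegenerate_iff_det_ne_zero.mpr
  intro hdet
  obtain ⟨x, hx0, hx⟩ := Matrix.exists_mulVec_eq_zero_iff.mpr hdet
  apply hx0
  have hk : ∀ k (i : Fin (d k)), ∑ j : Fin (d (σ k)), β k i j * x ⟨σ k, j⟩ = 0 := by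
    intro k i
    have h2 := congrFun hx ⟨k, i⟩
    rw [Matrix.mulVec, dotProduct, Fintype.sum_sigma, Finset.sum_eq_single (σ k)] at h2
    · rw [Pi.zero_apply] at h2
      rw [← h2]
      apply Finset.sum_congr rfl
      intro j _
      simp [G]
    · intro l _ hl
      apply Finset.sum_eq_zero
      intro j _
      simp [G, hl]
    · intro h
      exact absurd (Finset.mem_univ _) h
  have hzero : ∀ k (n : ℕ) (j : Fin (d (σ k))), (j : ℕ) = n → x ⟨σ k, j⟩ = 0 := by
    intro k n
    induction n using Nat.strong_induction_on with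
    | _ n ih =>
      intro j hj
      have hlt : (j : ℕ) < d k := by rw [← hd k]; exact j.2
      have h2 := hk k ⟨d k - 1 - j, by omega⟩
      rw [Finset.sum_eq_single j] at h2
      · rcases mul_eq_zero.mp h2 with h3 | h3
        · exfalso
          apply h1 k (d k - 1 - j) j _ h3
          omega
        · exact h3
      · intro j' _ hj'
        have hne : (j' : ℕ) ≠ j := fun h => hj' (Fin.ext h)
        rcases Nat.lt_or_gt_of_ne hne with h3 | h3
        · rw [ih j' (by omega) j' rfl, mul_zero]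
        · rw [h0, zero_mul]
          simp only
          omega
      · intro h
        exact absurd (Finset.mem_univ _) h
  funext ⟨l, j⟩
  have h3 := hzero (σ l)
  rw [hσ l] at h3
  exact h3 j j rfl

/-- an alternating matrix has even rank -/
theorem even_rank {n : Type*} [Fintype n] [DecidableEq n] (M : Matrix n n F)
    (hM : ∀ v, v ⬝ᵥ M *ᵥ v = 0) : Even M.rank := by
  classical
  let B : LinearMap.BilinForm F (n → F) := Matrix.toLinearMap₂' F M
  have hB : ∀ v w, B v w = v ⬝ᵥ M *ᵥ w := fun v w => Matrix.toLinearMap₂'_apply' M v w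
  have hA : B.IsAlt := fun v => by rw [hB]; exact hM v
  obtain ⟨m, k, b, h1, h2, h3, h4⟩ := H16.Forms.exists_symplectic_basis B hA
  have hn : Fintype.card n = (m + m) + k := by
    have := Module.finrank_eq_card_basis b
    rw [Module.finrank_fintype_fun_eq_card] at this
    simpa using this
  have hneg : ∀ v w, B v w = - B w v := fun v w => by rw [LinearMap.IsAlt.neg hA]
  have hker : LinearMap.ker (Matrix.mulVecLin M) = Submodule.span F (Set.range fun j => b (Sum.inr j)) := by
    apply le_antisymm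
    · intro v hv
      have hv' : ∀ w, B w v = 0 := by
        intro w
        rw [hB]
        have : M *ᵥ v = 0 := hv
        rw [this, dotProduct_zero]
      have hrep : v = ∑ i, b.repr v i • b i := (b.sum_repr v).symm
      rw [hrep, Fintype.sum_sum_type, Fintype.sum_sum_type]
      have c1 : ∀ i : Fin m, b.repr v (Sum.inl (Sum.inr i)) = 0 := by
        intro i
        have := hv' (b (Sum.inl (Sum.inl i)))
        rw [hrep, map_sum, Fintype.sum_sum_type, Fintype.sum_sum_type] at this
        simp only [map_smul, smul_eq_mul, h1, h2] at this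
        have h5 : ∀ j, B (b (Sum.inl (Sum.inl i))) (b (Sum.inr j)) = 0 := fun j => by
          rw [hneg, h4, neg_zero]
        simpa [h5] using this
      have c2 : ∀ i : Fin m, b.repr v (Sum.inl (Sum.inl i)) = 0 := by
        intro i
        have := hv' (b (Sum.inl (Sum.inr i)))
        rw [hrep, map_sum, Fintype.sum_sum_type, Fintype.sum_sum_type] at this
        have h5 : ∀ j, B (b (Sum.inl (Sum.inr i))) (b (Sum.inr j)) = 0 := fun j => by
          rw [hneg, h4, neg_zero]
        have h6 : ∀ j, B (b (Sum.inl (Sum.inr i))) (b (Sum.inl (Sum.inl j))) = if j = i then -1 else 0 := by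
          intro j
          rw [hneg, h1]
          split_ifs <;> simp
        simp only [map_smul, smul_eq_mul, h3, h5, h6] at this
        simpa using this
      simp only [c1, c2, zero_smul, Finset.sum_const_zero, zero_add]
      apply Submodule.sum_mem
      intro j _
      exact Submodule.smul_mem _ _ (Submodule.subset_span ⟨j, rfl⟩)
    · rw [Submodule.span_le]
      rintro _ ⟨j, rfl⟩
      change M *ᵥ (b (Sum.inr j)) = 0
      funext i
      have h5 : B (Pi.single i 1) (b (Sum.inr j)) = 0 := by rw [hneg, h4, neg_zero]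
      rw [hB, single_dotProduct, one_mul] at h5
      exact h5
  have hli : LinearIndependent F (fun j => b (Sum.inr j)) :=
    b.linearIndependent.comp _ Sum.inr_injective
  have hkd : Module.finrank F (LinearMap.ker (Matrix.mulVecLin M)) = k := by
    rw [hker, finrank_span_eq_card hli, Fintype.card_fin]
  have hrn := LinearMap.finrank_range_add_finrank_ker (Matrix.mulVecLin M)
  rw [Module.finrank_fintype_fun_eq_card, hkd] at hrn
  rw [Matrix.rank]
  exact ⟨m, by omega⟩

theorem even_rank_comp {n : Type*} [Fintype n] [DecidableEq n] (M P : Matrix n n F)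
    (hM : ∀ v, v ⬝ᵥ M *ᵥ v = 0) : Even (Pᵀ * M * P).rank := by
  apply even_rank
  intro v
  have := hM (P *ᵥ v)
  rw [← this, ← Matrix.mulVec_mulVec, ← Matrix.mulVec_mulVec, Matrix.dotProduct_mulVec,
    Matrix.vecMul_transpose]

/-- parity of multiplicities from parity of ranks -/
theorem even_mult (r : ℕ → ℕ) (hr : ∀ j, r j = ∑ k, (d k - j)) (j : ℕ) (hj : 0 < j)
    (h1 : Even (r (j - 1))) (h2 : Even (r (j + 1))) :
    Even (Finset.univ.filter (fun k : Fin t => d k = j)).card := by
  have key : (Finset.univ.filter (fun k : Fin t => d k = j)).card + 2 * r j = r (j - 1) + r (j + 1) := by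
    rw [hr, hr, hr, Finset.card_filter, Finset.mul_sum, ← Finset.sum_add_distrib, ← Finset.sum_add_distrib]
    apply Finset.sum_congr rfl
    intro k _
    split_ifs with h <;> omega
  have h3 : Even ((Finset.univ.filter (fun k : Fin t => d k = j)).card + 2 * r j) := by
    rw [key]; exact h1.add h2
  rcases Nat.even_add.mp h3 with h4
  exact h4.mpr (even_two_mul _)

theorem adj_pow {n : Type*} [Fintype n] [DecidableEq n] (G A A' : Matrix n n F)
    (hA : Aᵀ * G * A = G) (hA' : A * A' = 1) (k : ℕ) :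
    ((A - 1) ^ k)ᵀ * G = G * (A' - 1) ^ k := by
  have hA'' : A' * A = 1 := mul_eq_one_comm.mp hA'
  have h1 : (A - 1)ᵀ * G = G * (A' - 1) := by
    rw [Matrix.transpose_sub, Matrix.transpose_one, Matrix.sub_mul, Matrix.one_mul, Matrix.mul_sub, Matrix.mul_one]
    congr 1
    calc Aᵀ * G = Aᵀ * G * (A * A') := by rw [hA', Matrix.mul_one]
      _ = (Aᵀ * G * A) * A' := by simp only [Matrix.mul_assoc]
      _ = G * A' := by rw [hA]
  induction k with
  | zero => simp
  | succ k ih =>
    rw [pow_succ, Matrix.transpose_mul, Matrix.mul_assoc, ih, ← Matrix.mul_assoc, h1, Matrix.mul_assoc,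
      ← pow_succ']

theorem commute_stuff {n : Type*} [Fintype n] [DecidableEq n] (A A' : Matrix n n F) (hA' : A * A' = 1) (k : ℕ) :
    (A' - 1) ^ k * (A - 1) ^ k = (-A') ^ k * (A - 1) ^ (2 * k) := by
  have hA'' : A' * A = 1 := mul_eq_one_comm.mp hA'
  have h1 : A' - 1 = -A' * (A - 1) := by
    rw [Matrix.mul_sub, Matrix.mul_one, Matrix.neg_mul, hA'']; abel
  have hc : Commute (-A') (A - 1) := by
    have : Commute A' A := by rw [commute_iff_eq, hA', hA'']
    exact ((this.sub_right (Commute.one_right _)).neg_left)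
  rw [h1, hc.mul_pow, Matrix.mul_assoc, ← pow_add, two_mul]

/-- rank of even powers is even for isometries of nondegenerate alternating forms -/
theorem even_rank_pow {n : Type*} [Fintype n] [DecidableEq n] (G A : Matrix n n F)
    (hG : G.det ≠ 0) (hGA : ∀ v, v ⬝ᵥ G *ᵥ v = 0) (hA : Aᵀ * G * A = G) (k : ℕ) :
    Even ((A - 1) ^ (2 * k)).rank := by
  have hdA : A.det ≠ 0 := by
    intro h
    apply hG
    rw [← hA, Matrix.det_mul, h, mul_zero]
  have hA' : A * A⁻¹ = 1 := Matrix.mul_nonsing_inv _ (isUnit_iff_ne_zero.mpr hdA)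
  have h1 := even_rank_comp G ((A - 1) ^ k) hGA
  rw [adj_pow G A A⁻¹ hA hA' k, Matrix.mul_assoc, commute_stuff A A⁻¹ hA' k, ← Matrix.mul_assoc] at h1
  rwa [Matrix.rank_mul_eq_right_of_isUnit_det] at h1
  rw [Matrix.det_mul, Matrix.det_pow]
  apply IsUnit.mul (isUnit_iff_ne_zero.mpr hG)
  apply IsUnit.pow
  rw [Matrix.det_neg]
  apply IsUnit.mul
  · exact (isUnit_one.neg).pow _
  · rw [Matrix.isUnit_nonsing_inv_det_iff]
    exact isUnit_iff_ne_zero.mpr hdA

end H48.JTForm
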