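import Cfsg.Agent.Lib.H48.Agl5
import Cfsg.Agent.Lib.H39.DBB5

set_option autoImplicit false

namespace H48.Agl

universe u v

open MulAction H39.DA

/-- degree 16 with a regular elementary abelian normal subgroup: `G` is the affine group of the plane over `F₄` -/
theorem final {G : Type u} {Ω : Type v} [Group G] [Finite G] [MulAction G Ω] [Finite Ω] (h : B4 G Ω) (hn : Nat.card Ω = 16) (E : Subgroup G)
    (hE : Reg G Ω E) (hEc : ∀ g ∈ E, ∀ g' ∈ E, g * g' = g' * g) (hE2 : ∀ g ∈ E, g * g = 1) :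
    ∃ (F : Type) (_ : Field F) (_ : Fintype F), Fintype.card F = 4 ∧ Nonempty (G ≃* ((Fin 2 → F) ≃ᵃ[F] (Fin 2 → F))) := by
  obtain ⟨a, -, -⟩ := h.two
  obtain ⟨X, hX, hX3, h2⟩ := exists_X h hn a E hE hEc
  exact a4final16 h hn E hE hEc hE2 X hX hX3 h2

end H48.Agl
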