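import Mathlib

set_option autoImplicit false

namespace H48

/-- the affine group of the plane over the field with 4 elements has order at most 2880 -/
theorem cardAGL {F : Type} [Field F] [Fintype F] (h : Fintype.card F = 4) :
    Nat.card ((Fin 2 → F) ≃ᵃ[F] (Fin 2 → F)) ≤ 2880 := by
  classical
  let f : ((Fin 2 → F) ≃ᵃ[F] (Fin 2 → F)) → (Fin 2 → F) × Matrix.GeneralLinearGroup (Fin 2) F :=
    fun σ => (σ 0, Matrix.GeneralLinearGroup.toLin.symm
      ((LinearMap.GeneralLinearGroup.generalLinearEquiv F (Fin 2 → F)).symm σ.linear))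
  have hf : Function.Injective f := by
    intro σ τ h
    have h1 : σ 0 = τ 0 := congrArg Prod.fst h
    have h2 : σ.linear = τ.linear := by
      have := congrArg Prod.snd h
      exact (LinearMap.GeneralLinearGroup.generalLinearEquiv F (Fin 2 → F)).symm.injective
        (Matrix.GeneralLinearGroup.toLin.symm.injective this)
    ext1 x
    have h3 := σ.map_vadd 0 x
    have h4 := τ.map_vadd 0 x
    rw [vadd_eq_add, add_zero] at h3 h4
    rw [h3, h4, h1, h2]
  have hle := Nat.card_le_card_of_injective f hf
  have h16 : Nat.card (Fin 2 → F) = 16 := by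
    rw [Nat.card_eq_fintype_card, Fintype.card_fun, Fintype.card_fin, h]
    norm_num
  rw [Nat.card_prod, Matrix.card_GL_field, h16, h, Fin.prod_univ_two] at hle
  simpa using hle

end H48
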