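import Mathlib
import Cfsg.Prelude.Def_Local
import Cfsg.Agent.Lib.H6.SLGen
import Cfsg.Agent.Lib.H21.PSLTransport
import Cfsg.Agent.Lib.H26.Components
import Cfsg.Agent.Lib.H30.Rank3

set_option autoImplicit false

/-! From a normal `PSL_n(K)` with trivial centralizer to the conclusions of S3410, S2201, S3705. -/

namespace H48.Wr

open Subgroup Cfsg

/-- A normal simple subgroup with trivial centralizer is the generalized Fitting subgroup. -/
theorem gF_eq {G : Type*} [Group G] [Finite G] (T : Subgroup G) [hT : T.Normal]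
    (hs : IsSimpleGroup T) (hc : centralizer (T : Set G) = ⊥) :
    generalizedFittingSubgroup G = T := by
  have hne : T ≠ ⊥ := by
    intro h
    have := hs.toNontrivial
    rw [h] at this
    exact not_subsingleton (⊥ : Subgroup G) (inferInstance)
  have hnc : ∃ x y : T, x * y ≠ y * x := by
    by_contra hcon
    push Not at hcon
    apply hne
    rw [eq_bot_iff, ← hc]
    intro x hx
    rw [mem_centralizer_iff]
    intro y hy
    exact congrArg Subtype.val (hcon ⟨y, hy⟩ ⟨x, hx⟩)
  have hcomp : IsComponent T := ⟨Normal.isSubnormal hT, H30.Rank3.quasisimple_of_simple hnc⟩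
  have hTl : T ≤ layer G := H26.Components.le_layer hcomp
  have hcen : ∀ H : Subgroup G, ⁅T, H⁆ = ⊥ → H = ⊥ := by
    intro H hH
    rw [eq_bot_iff, ← hc, ← commutator_eq_bot_iff_le_centralizer, commutator_comm]
    exact hH
  apply le_antisymm
  · refine sup_le (sSup_le ?_) ?_
    · intro K hK
      rcases H26.Components.eq_or_commutator_eq_bot hcomp hK with h | h
      · exact h.ge
      · exact absurd (hcen K h) (H26.Components.ne_bot hK)
    · have h1 := H26.Components.commutator_layer_fittingSubgroup (G := G)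
      have h2 : ⁅T, fittingSubgroup G⁆ = ⊥ := by
        rw [eq_bot_iff, ← h1]
        exact commutator_mono hTl le_rfl
      rw [hcen _ h2]
      exact bot_le
  · exact hTl.trans H26.Components.layer_le_gFitting

/-- moving the field to `Type`. -/
theorem exists_field (K : Type*) [Field K] [Finite K] :
    ∃ (F : Type) (_ : Field F) (_ : Fintype F), Nat.card K = Fintype.card F := by
  classical
  have : Fintype K := Fintype.ofFinite K
  have : Small.{0} K := inferInstance
  have : Fintype (Shrink.{0} K) := Fintype.ofEquiv K (equivShrink K)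
  exact ⟨Shrink.{0} K, inferInstance, inferInstance, by
    rw [Nat.card_congr (equivShrink.{0} K), Nat.card_eq_fintype_card]⟩

/-- the conclusion of S3410. -/
theorem main {G : Type*} [Group G] [Finite G] (T : Subgroup G) (hT : T.Normal)
    (hc : centralizer (T : Set G) = ⊥) {K : Type*} [Field K] [Finite K] {n : ℕ} (hn : 3 ≤ n)
    (e : Nonempty (T ≃* Matrix.ProjectiveSpecialLinearGroup (Fin n) K)) :
    ∃ (F : Type) (_ : Field F) (_ : Fintype F) (m : ℕ), 3 ≤ m ∧
      Nonempty (↥(Cfsg.generalizedFittingSubgroup G) ≃* Matrix.ProjectiveSpecialLinearGroup (Fin m) F) := by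
  obtain ⟨e⟩ := e
  obtain ⟨F, _, _, hF⟩ := exists_field K
  have : Fintype K := Fintype.ofFinite K
  have hK : Fintype.card K = Fintype.card F := by rw [← hF, Nat.card_eq_fintype_card]
  obtain ⟨e'⟩ := H21.PSLTransport.psl_congr_card hK (Fin n)
  have : IsSimpleGroup (Matrix.ProjectiveSpecialLinearGroup (Fin n) K) :=
    H6.SLGen.psl_isSimpleGroup (by simpa using hn)
  have : Nontrivial T := e.toEquiv.nontrivial
  have hs : IsSimpleGroup T := IsSimpleGroup.isSimpleGroup_of_surjective e.symm.toMonoidHom
    e.symm.surjective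
  refine ⟨F, inferInstance, inferInstance, n, hn, ?_⟩
  rw [gF_eq T hs hc]
  exact ⟨e.trans e'⟩

/-- the conclusion of S2201 and S3705. -/
theorem main2 {G : Type*} [Group G] [Finite G] (T : Subgroup G) (hT : T.Normal)
    (hc : centralizer (T : Set G) = ⊥) {K : Type*} [Field K] [Finite K] {n : ℕ}
    (e : Nonempty (T ≃* Matrix.ProjectiveSpecialLinearGroup (Fin n) K)) :
    ∃ (F : Type) (_ : Field F) (_ : Fintype F), Fintype.card F = Nat.card K ∧
      ∃ L : Subgroup G, L.Normal ∧ centralizer (L : Set G) = ⊥ ∧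
        Nonempty (L ≃* Matrix.ProjectiveSpecialLinearGroup (Fin n) F) := by
  obtain ⟨e⟩ := e
  obtain ⟨F, _, _, hF⟩ := exists_field K
  have : Fintype K := Fintype.ofFinite K
  have hK : Fintype.card K = Fintype.card F := by rw [← hF, Nat.card_eq_fintype_card]
  obtain ⟨e'⟩ := H21.PSLTransport.psl_congr_card hK (Fin n)
  exact ⟨F, inferInstance, inferInstance, hF.symm, T, hT, hc, ⟨e.trans e'⟩⟩

/-- the number of points. -/
theorem card_points {K V X : Type*} [Field K] [Finite K] [AddCommGroup V] [Module K V]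
    [Module.Finite K V] (v : X → V) (hv0 : ∀ x, v x ≠ 0)
    (hv : ∀ w : V, w ≠ 0 → ∃ x, ∃ c : K, w = c • v x)
    (hinj : ∀ x y, (∃ c : K, v x = c • v y) → x = y) :
    Nat.card X * (Nat.card K - 1) = Nat.card K ^ Module.finrank K V - 1 := by
  classical
  have : Fintype K := Fintype.ofFinite K
  have hfV : Finite V := Module.finite_of_finite K
  have : Fintype V := Fintype.ofFinite V
  have e : (X × Kˣ) ≃ {w : V // w ≠ 0} := by
    refine Equiv.ofBijective (fun p => ⟨(p.2 : K) • v p.1, smul_ne_zero p.2.ne_zero (hv0 _)⟩) ⟨?_, ?_⟩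
    · rintro ⟨x, c⟩ ⟨y, d⟩ h
      have h1 : (c : K) • v x = (d : K) • v y := congrArg Subtype.val h
      have h2 : x = y := hinj x y ⟨(c : K)⁻¹ * d, by
        rw [← smul_smul, ← h1, smul_smul, inv_mul_cancel₀ c.ne_zero, one_smul]⟩
      subst h2
      have h3 : (c : K) = d := smul_left_injective K (hv0 x) h1
      rw [Units.ext h3]
    · rintro ⟨w, hw⟩
      obtain ⟨x, c, h⟩ := hv w hw
      have hc : c ≠ 0 := by
        rintro rfl
        exact hw (by rw [h, zero_smul])
      exact ⟨(x, Units.mk0 c hc), Subtype.ext h.symm⟩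
  have h1 := Nat.card_congr e
  rw [Nat.card_prod, Nat.card_units] at h1
  rw [h1]
  have h2 : Nat.card {w : V // w ≠ 0} = Fintype.card V - 1 := by
    rw [Nat.card_eq_fintype_card, Fintype.card_subtype_compl, Fintype.card_subtype_eq]
  rw [h2, Module.card_eq_pow_finrank (K := K) (V := V), Nat.card_eq_fintype_card]

end H48.Wr
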